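import Groth.Agent.PerfCoh46.Main
import Groth.Agent.DCX42.PerfectRetract
import Groth.Agent.KRR40.Regular
import Groth.Agent.Amp73.GlobGen
import Groth.Agent.QC70.ExtCoh
import Mathlib.CategoryTheory.Triangulated.TStructure.TruncLTGE

/-!
On a regular scheme every bounded object with coherent cohomology is perfect.
-/

set_option autoImplicit false
set_option linter.unusedSectionVars false
set_option linter.style.haveILetI false
set_option backward.isDefEq.respectTransparency.types false

noncomputable section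

universe u

open CategoryTheory CategoryTheory.Limits AlgebraicGeometry TopologicalSpace DerivedCategory
  CategoryTheory.Pretriangulated
attribute [local instance] HasDerivedCategory.standard

namespace Groth.Agent.PerfCoh46

variable {X : Scheme.{u}}

theorem hasEnoughLocFree_of_isAffine (U : Scheme.{u}) [IsAffine U] : KRR.HasEnoughLocFree U := by
  intro F hF
  obtain ⟨k, p, hp⟩ := Amp73.exists_epi_freeMod hF.1 hF.2 fun x =>
    ⟨⊤, trivial, isAffineOpen_top U, eq_top_iff.2 fun t _ =>
      Submodule.subset_span ⟨t, by simp [QC70.res_self]⟩⟩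
  exact ⟨_, p, QC70.isFinLocFree_freeMod U k, hp⟩

theorem isPerfect_of_pd [IsLocallyNoetherian X] (hX : KRR.HasEnoughLocFree X) :
    ∀ (d : ℕ) (F : X.Modules), Coh.IsCoh F → KRR40.PD d F →
      DCoh.IsPerfect ((singleFunctor X.Modules 0).obj F)
  | 0, F, hF, h => DCX42.isPerfect_single (KRR40.vb_iff.2 ⟨hF, h⟩) 0
  | d + 1, F, hF, h => by
    obtain ⟨E, p, hE, hp⟩ := hX F hF
    have hS := K0Res3.epiSeq_shortExact p
    have hK : DCoh.IsPerfect ((singleFunctor X.Modules 0).obj (kernel p)) :=
      isPerfect_of_pd hX d (kernel p) (QC70.isCoh_kernel p (KRR40.isCoh_of_vb hE) hF.1)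
        (KRR40.pd_X₁ hS (KRR40.pd_mono (Nat.zero_le d) (KRR40.pd_zero_of_isFinLocFree hE)) h)
    exact DCX42.isPerfect₃ hS.singleTriangle hS.singleTriangle_distinguished hK
      (DCX42.isPerfect_single hE 0)

theorem isPerfect_coh [IsLocallyNoetherian X]
    (hreg : ∀ x : X, IsRegularLocalRing (X.presheaf.stalk x)) (F : X.Modules) (hF : Coh.IsCoh F) :
    DCoh.IsPerfect ((singleFunctor X.Modules 0).obj F) := by
  rw [DCX42.isPerfect_iff]
  intro x
  obtain ⟨V, hV, hxV, -⟩ := exists_isAffineOpen_mem_and_subset (show x ∈ (⊤ : X.Opens) from trivial)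
  haveI : IsAffine (V : Scheme.{u}) := hV
  let G := (Scheme.Modules.restrictFunctor V.ι).obj F
  have hG : Coh.IsCoh G :=
    haveI := hF.1
    haveI := hF.2
    QC70.isCoh_of_iso ((Scheme.Modules.restrictFunctorIsoPullback V.ι).app F).symm
      ⟨QCPull72.isQuasicoherent_pullback V.ι F, QCPull72.isFiniteType_pullback V.ι F⟩
  have hregV : ∀ y : (V : Scheme.{u}), IsRegularLocalRing ((V : Scheme.{u}).presheaf.stalk y) := fun y =>
    haveI := hreg (V.ι y)
    IsRegularLocalRing.of_ringEquiv (asIso (V.ι.stalkMap y)).commRingCatIsoToRingEquiv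
  have hX := hasEnoughLocFree_of_isAffine (V : Scheme.{u})
  obtain ⟨d, hd⟩ := KRR40.exists_pd_of_regular hregV hX hG
  obtain ⟨W, hW, hP⟩ := (DCX42.isPerfect_iff _).1 (isPerfect_of_pd hX d G hG hd) ⟨x, hxV⟩
  exact DCX42.exists_open_of_pieces (fun h e => h.of_iso e)
    (fun j _ h => h.restrict j) _ V W hxV hW
    (hP.of_iso ((DCX42.resD W.ι).mapIso
      (((Scheme.Modules.restrictFunctor V.ι).mapDerivedCategorySingleFunctor 0).app F).symm))

theorem isPerfect_of_bounded [IsLocallyNoetherian X]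
    (hreg : ∀ x : X, IsRegularLocalRing (X.presheaf.stalk x)) :
    ∀ (k : ℕ) (K : DCoh.D X), DCoh.IsCohD K → ∀ a : ℤ, K.IsGE a → K.IsLE (a + k - 1) → DCoh.IsPerfect K := by
  have hsingle : ∀ (n : ℤ) (K : DCoh.D X), DCoh.IsCohD K → K.IsGE n → K.IsLE n → DCoh.IsPerfect K := by
    intro n K hK _ _
    obtain ⟨M, ⟨e⟩⟩ := exists_iso_singleFunctor_obj_of_isGE_of_isLE K n
    have hM : Coh.IsCoh M := QC70.isCoh_of_iso ((homologyFunctor _ n).mapIso e ≪≫
      (singleFunctorCompHomologyFunctorIso X.Modules n).app M) (hK n)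
    exact DCX42.isPerfect_of_iso (((singleFunctors X.Modules).shiftIso (-n) n 0 (by omega)).app M ≪≫ e.symm)
      (DCX42.isPerfect_shift (isPerfect_coh hreg M hM) (-n))
  intro k
  induction k with
  | zero =>
    intro K hK a ha hb
    have h0 : ∀ n : ℤ, IsZero ((homologyFunctor X.Modules n).obj K) := fun n => by
      by_cases hn : n < a
      · exact isZero_of_isGE K a n hn
      · exact isZero_of_isLE K (a + (0 : ℕ) - 1) n (by omega)
    exact hsingle a K hK ha ((isLE_iff _ _).2 fun i _ => h0 i)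
  | succ k ih =>
    intro K hK a ha hb
    let n : ℤ := a + k
    have hbn : K.IsLE n := by
      convert hb using 2
      simp [n]
      omega
    let Δ := ((TStructure.t (C := X.Modules)).triangleLTGE n).obj K
    have hΔ : Δ ∈ distinguishedTriangles := TStructure.t.triangleLTGE_distinguished n K
    haveI hLE : Δ.obj₁.IsLE (n - 1) := inferInstanceAs (TStructure.t.IsLE _ (n - 1))
    haveI hGE : Δ.obj₃.IsGE n := inferInstanceAs (TStructure.t.IsGE _ n)
    have hlow : Δ.obj₁.IsGE a := (isGE_iff _ a).2 fun i hi => by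
      refine (HomologySequence.exact₁ Δ hΔ (i - 1) i (by omega)).isZero_of_both_zeros ?_ ?_
      · exact (isZero_of_isGE Δ.obj₃ n (i - 1) (by omega)).eq_of_src _ _
      · exact (isZero_of_isGE K a i hi).eq_of_tgt _ _
    have hhigh : Δ.obj₃.IsLE n := (isLE_iff _ n).2 fun i hi => by
      refine (HomologySequence.exact₃ Δ hΔ i (i + 1) rfl).isZero_of_both_zeros ?_ ?_
      · exact (isZero_of_isLE K n i hi).eq_of_src _ _
      · exact (isZero_of_isLE Δ.obj₁ (n - 1) (i + 1) (by omega)).eq_of_tgt _ _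
    have hiso : ∀ i ≤ n - 1, IsIso ((homologyFunctor X.Modules i).map Δ.mor₁) := fun i hi => by
      haveI : Mono ((homologyFunctor X.Modules i).map Δ.mor₁) :=
        (HomologySequence.mono_homologyMap_mor₁_iff Δ hΔ (i - 1) i (by omega)).2
          ((isZero_of_isGE Δ.obj₃ n (i - 1) (by omega)).eq_of_src _ _)
      haveI : Epi ((homologyFunctor X.Modules i).map Δ.mor₁) :=
        (HomologySequence.epi_homologyMap_mor₁_iff Δ hΔ i).2
          ((isZero_of_isGE Δ.obj₃ n i (by omega)).eq_of_tgt _ _)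
      exact isIso_of_mono_of_epi _
    have h₁ : DCoh.IsCohD Δ.obj₁ := fun i => by
      by_cases hi : i ≤ n - 1
      · haveI := hiso i hi
        exact QC70.isCoh_of_iso (asIso ((homologyFunctor X.Modules i).map Δ.mor₁)).symm (hK i)
      · exact QC70.isCoh_of_isZero (isZero_of_isLE Δ.obj₁ (n - 1) i (by omega))
    have h₃ : DCoh.IsCohD Δ.obj₃ := fun i => by
      by_cases hi : i = n
      · subst hi
        haveI : Mono ((homologyFunctor X.Modules n).map Δ.mor₂) :=
          (HomologySequence.mono_homologyMap_mor₂_iff Δ hΔ n).2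
            ((isZero_of_isLE Δ.obj₁ (n - 1) n (by omega)).eq_of_src _ _)
        haveI : Epi ((homologyFunctor X.Modules n).map Δ.mor₂) :=
          (HomologySequence.epi_homologyMap_mor₂_iff Δ hΔ n (n + 1) rfl).2
            ((isZero_of_isLE Δ.obj₁ (n - 1) (n + 1) (by omega)).eq_of_tgt _ _)
        haveI : IsIso ((homologyFunctor X.Modules n).map Δ.mor₂) := isIso_of_mono_of_epi _
        exact QC70.isCoh_of_iso (asIso ((homologyFunctor X.Modules n).map Δ.mor₂)) (hK n)
      · refine QC70.isCoh_of_isZero ?_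
        rcases lt_or_gt_of_ne hi with h | h
        exacts [isZero_of_isGE Δ.obj₃ n i h, isZero_of_isLE Δ.obj₃ n i h]
    exact DCX42.isPerfect₂ Δ hΔ (ih _ h₁ a hlow hLE) (hsingle n _ h₃ hGE hhigh)

theorem isPerfect_of_cohD [IsLocallyNoetherian X]
    (hreg : ∀ x : X, IsRegularLocalRing (X.presheaf.stalk x)) (K : DCoh.D X) (hK : DCoh.IsCohD K)
    {a b : ℤ} (ha : K.IsGE a) (hb : K.IsLE b) : DCoh.IsPerfect K :=
  isPerfect_of_bounded hreg (b + 1 - a).toNat K hK a ha (TStructure.t.isLE_of_le K b _ (by omega))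

end Groth.Agent.PerfCoh46
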