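import Groth.Agent.PerfCoh46.Main
import Groth.Agent.KDer46.Hom
import Groth.Agent.CohSerre72.Basic

/-!
`K₀` of coherent modules supported on a closed set and of perfect complexes supported there.
-/

set_option autoImplicit false
set_option linter.unusedSectionVars false
set_option linter.style.haveILetI false
set_option backward.isDefEq.respectTransparency.types false

noncomputable section

universe u

open CategoryTheory CategoryTheory.Limits AlgebraicGeometry TopologicalSpace DerivedCategory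
  CategoryTheory.Pretriangulated
attribute [local instance] HasDerivedCategory.standard

namespace Groth.Agent.PerfCoh46

variable (X : Scheme.{u})

/-- Coherent modules supported in a set. -/
def cohSupp (Y : Set X) : ObjectProperty X.Modules := fun G => Coh.IsCoh G ∧ CohB1.support G ⊆ Y

/-- Perfect objects with cohomology supported in a set. -/
def perfSupp (Y : Set X) : ObjectProperty (DCoh.D X) :=
  fun K => DCoh.IsPerfect K ∧ ∀ i : ℤ, CohB1.support (DCoh.HD K i) ⊆ Y

variable [IsNoetherian X] (Y : Set X)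

instance : (cohSupp X Y).IsClosedUnderIsomorphisms :=
  ⟨fun e h => ⟨QC70.isCoh_of_iso e h.1, (QC70.mem_support_of_mono e.inv).trans h.2⟩⟩

instance : (cohSupp X Y).IsClosedUnderKernels :=
  KDer46.isClosedUnderKernels_of _ fun f hX hY =>
    ⟨QC70.isCoh_kernel f hX.1 hY.1.1, (QC70.mem_support_of_mono (kernel.ι f)).trans hX.2⟩

instance : (cohSupp X Y).IsClosedUnderCokernels :=
  KDer46.isClosedUnderCokernels_of _ fun f hX hY =>
    ⟨QC70.isCoh_cokernel f hX.1.1 hY.1, (QC70.mem_support_of_epi (cokernel.π f)).trans hY.2⟩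

instance : (cohSupp X Y).IsClosedUnderExtensions :=
  ⟨fun {S} hS h₁ h₃ => ⟨QC70.isCoh_X₂ S hS h₁.1 h₃.1, by
    rw [CohSerre72.support_X₂ S hS, Set.union_subset_iff]
    exact ⟨h₁.2, h₃.2⟩⟩⟩

theorem cohSupp_of_isZero {M : X.Modules} (h : IsZero M) : cohSupp X Y M :=
  ⟨QC70.isCoh_of_isZero h, fun x hx => absurd
    (subsingleton_stalk_of_isZero h x) hx⟩

theorem isPerfect_of_isZero {K : DCoh.D X} (h : IsZero K) : DCoh.IsPerfect K := by
  rw [DCX42.isPerfect_iff]
  refine fun x => ⟨⊤, trivial, ?_⟩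
  obtain ⟨Z, hZ⟩ := HasZeroObject.zero (C := CochainComplex (⊤ : X.Opens).toScheme.Modules ℤ)
  exact ⟨Z, ⟨⟨0, 0, fun i _ => (HomologicalComplex.eval _ _ i).map_isZero hZ⟩, fun i =>
      DCX42.isFinLocFree_of_isZero ((HomologicalComplex.eval _ _ i).map_isZero hZ)⟩,
    ⟨(Functor.map_isZero _ h).iso (Functor.map_isZero _ hZ)⟩⟩

theorem good_perfSupp (hperf : ∀ G : X.Modules, Coh.IsCoh G → CohB1.support G ⊆ Y →
    DCoh.IsPerfect (DCoh.inD X G)) : KDer46.Good (cohSupp X Y) (perfSupp X Y) := by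
  have hsub : ∀ K, perfSupp X Y K → KDer46.Pbd (cohSupp X Y) K := fun K h =>
    ⟨fun i => ⟨(isCohD_and_bounded h.1).1 i, h.2 i⟩, (isCohD_and_bounded h.1).2⟩
  have hzero : (cohSupp X Y).ContainsZero := by
    obtain ⟨Z, hZ⟩ := HasZeroObject.zero (C := X.Modules)
    exact ⟨⟨Z, hZ, cohSupp_of_isZero X Y hZ⟩⟩
  refine
    { iso := fun e h => ⟨DCX42.isPerfect_of_iso e h.1, fun i => ((KDer46.pbd_iso e (hsub _ h)).1 i).2⟩
      zero := fun h => ⟨isPerfect_of_isZero X h, fun i => ((KDer46.pbd_zero h).1 i : cohSupp X Y _).2⟩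
      shift := fun K n h => ⟨DCX42.isPerfect_shift h.1 n, fun i => ((KDer46.pbd_shift K n (hsub _ h)).1 i).2⟩
      single := fun G h => ⟨hperf G h.1 h.2, fun i => ((KDer46.pbd_single G h).1 i).2⟩
      obj₁ := fun Δ hΔ h₂ h₃ => ⟨DCX42.isPerfect₁ Δ hΔ h₂.1 h₃.1, fun i =>
        ((KDer46.pbd_obj₁ Δ hΔ (hsub _ h₂) (hsub _ h₃)).1 i).2⟩
      homology := fun K h => (hsub K h).1
      bounded := fun K h => (hsub K h).2 }

end Groth.Agent.PerfCoh46
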