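import Groth.Agent.DCX42.Perfect
import Groth.Agent.DCX42.LocalFP
import Groth.Agent.Div89.FreeStalks
import Groth.Agent.QC70.CohOps
import Groth.Agent.QC70.ExtZero
import Groth.Agent.Props58.LocFree.Criteria

/-!
On a Noetherian scheme a perfect object is bounded with coherent cohomology.
-/

set_option autoImplicit false
set_option linter.unusedSectionVars false
set_option linter.style.haveILetI false
set_option backward.isDefEq.respectTransparency.types false

noncomputable section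

universe u

open CategoryTheory CategoryTheory.Limits AlgebraicGeometry TopologicalSpace DerivedCategory
attribute [local instance] HasDerivedCategory.standard

namespace Groth.Agent.PerfCoh46

variable {X : Scheme.{u}}

theorem isCoh_of_local [IsLocallyNoetherian X] (M : X.Modules)
    (h : ∀ x : X, ∃ W : X.Opens, x ∈ W ∧ Coh.IsCoh (M.restrict W.ι)) : Coh.IsCoh M := by
  have : CohB1.IsFP M := DCX42.isFP_of_local M fun x => by
    obtain ⟨W, hx, hW⟩ := h x
    exact ⟨W, hx, Div89.isFP_of_isCoh hW⟩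
  exact ⟨inferInstance, inferInstance⟩

theorem isCoh_homology [IsLocallyNoetherian X] {E : CochainComplex X.Modules ℤ}
    (hE : ∀ i, Coh.IsCoh (E.X i)) (i : ℤ) : Coh.IsCoh (E.homology i) := by
  have hZ : Coh.IsCoh (E.cycles i) :=
    QC70.isCoh_of_iso ((kernelIsKernel (E.d i (i + 1))).conePointUniqueUpToIso
      (E.cyclesIsKernel i (i + 1) (by simp))) (QC70.isCoh_kernel _ (hE i) (hE (i + 1)).1)
  exact QC70.isCoh_of_iso ((cokernelIsCokernel (E.toCycles (i - 1) i)).coconePointUniqueUpToIso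
    (E.homologyIsCokernel (i - 1) i (by simp))) (QC70.isCoh_cokernel _ (hE (i - 1)).1 hZ)

theorem subsingleton_stalk_of_isZero {M : X.Modules} (hM : IsZero M) (x : X) :
    Subsingleton (M.presheaf.stalk x) := by
  refine subsingleton_of_forall_eq 0 fun e => ?_
  obtain ⟨T, hT, s, rfl⟩ := QC70.germM_exist e
  have h0 := congr((Scheme.Modules.Hom.app $(hM.eq_of_src (𝟙 _) 0) T) s)
  exact (congrArg (QC70.germM _ T _ hT) h0).trans (QC70.germM_zero hT)

theorem isZero_of_restrict {M : X.Modules}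
    (h : ∀ x : X, ∃ W : X.Opens, x ∈ W ∧ IsZero (M.restrict W.ι)) : IsZero M := by
  refine QC70.isZero_of_support_eq_empty (Set.eq_empty_iff_forall_notMem.2 fun x => ?_)
  obtain ⟨W, hx, hW⟩ := h x
  refine QC70.notMem_support_iff.2 ?_
  have hb := ConcreteCategory.bijective_of_isIso
    ((Scheme.Modules.restrictStalkNatIso W.ι ⟨x, hx⟩).hom.app M)
  haveI : Subsingleton ((M.restrict W.ι).presheaf.stalk ⟨x, hx⟩) := subsingleton_stalk_of_isZero hW _
  exact subsingleton_of_forall_eq ((Scheme.Modules.restrictStalkNatIso W.ι ⟨x, hx⟩).hom.app M (0 : (M.restrict W.ι).presheaf.stalk ⟨x, hx⟩)) fun z => by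
    obtain ⟨z', rfl⟩ := hb.2 z
    exact congrArg _ (Subsingleton.elim (α := (M.restrict W.ι).presheaf.stalk ⟨x, hx⟩) z' 0)

theorem exists_local [IsLocallyNoetherian X] {K : DCoh.D X} (hK : DCoh.IsPerfect K) (x : X) :
    ∃ (W : X.Opens) (a b : ℤ), x ∈ W ∧ (∀ i, Coh.IsCoh ((DCoh.HD K i).restrict W.ι)) ∧
      ∀ i, i < a ∨ b < i → IsZero ((DCoh.HD K i).restrict W.ι) := by
  obtain ⟨V, hx, E, ⟨⟨a, b, hab⟩, hE⟩, ⟨e⟩⟩ := (DCX42.isPerfect_iff K).1 hK x
  let G := Scheme.Modules.restrictFunctor V.ι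
  let f (i : ℤ) : E.homology i ≅ G.obj (DCoh.HD K i) :=
    ((homologyFunctorFactors _ i).app E).symm ≪≫ (homologyFunctor _ i).mapIso e.symm ≪≫
      (Mod48.nonempty_homology_mapDerivedCategory G K i).some
  refine ⟨V, a, b, hx, fun i => ?_, fun i hi => ?_⟩
  · exact QC70.isCoh_of_iso (f i) (isCoh_homology (fun j => ⟨Props58.LocFree.isQuasicoherent_of_isFinLocFree (hE j),
      Props58.LocFree.isFiniteType_of_isFinLocFree (hE j)⟩) i)
  · refine IsZero.of_iso ?_ (f i).symm
    exact (HomologicalComplex.exactAt_iff_isZero_homology _ _).1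
      (HomologicalComplex.ExactAt.of_isZero (hab i hi))

theorem isCohD_and_bounded [IsNoetherian X] {K : DCoh.D X} (hK : DCoh.IsPerfect K) :
    DCoh.IsCohD K ∧ ∃ a b : ℤ, K.IsGE a ∧ K.IsLE b := by
  choose W a b hx hcoh hz using exists_local hK
  refine ⟨fun i => isCoh_of_local _ fun x => ⟨W x, hx x, hcoh x i⟩, ?_⟩
  obtain ⟨t, ht⟩ := isCompact_univ.elim_finite_subcover (fun x => (W x : Set X))
    (fun x => (W x).2) (fun x _ => Set.mem_iUnion.2 ⟨x, hx x⟩)
  have hz' : ∀ i, (∀ x ∈ t, i < a x ∨ b x < i) → IsZero (DCoh.HD K i) := fun i hi =>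
    isZero_of_restrict fun y => by
      obtain ⟨x, hxt, hy⟩ := Set.mem_iUnion₂.1 (ht (Set.mem_univ y))
      exact ⟨W x, hy, hz x i (hi x hxt)⟩
  obtain ⟨A, hA⟩ := (t.finite_toSet.image a).bddBelow
  obtain ⟨B, hB⟩ := (t.finite_toSet.image b).bddAbove
  refine ⟨A, B, (isGE_iff _ _).2 fun i hi => hz' i fun x hx' => Or.inl ?_,
    (isLE_iff _ _).2 fun i hi => hz' i fun x hx' => Or.inr ?_⟩
  · have := hA (Set.mem_image_of_mem a hx')
    omega
  · have := hB (Set.mem_image_of_mem b hx')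
    omega

end Groth.Agent.PerfCoh46
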